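import Groth.Agent.Lib.LocZ.Sheaf
import Groth.Agent.Lib.LocZ.Seq
import Groth.Agent.Lib.SheafCoh.Acyclic
import Groth.Agent.Lib.SheafCoh.DerivedComp

/-! # A local criterion for the vanishing of local cohomology sheaves -/

set_option autoImplicit false
universe u

open CategoryTheory CategoryTheory.Limits Opposite TopologicalSpace

namespace GrothLib.LocVan25

variable {X : TopCat.{u}} (U : Opens X)

/-- The sheaves with supports vanish in degree `i` if the groups do on arbitrarily small opens. -/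
theorem isZero_HZsh_of_locally (F : CohTop.Ab X) (i : ℕ)
    (h : ∀ (V : Opens X) (x : X), x ∈ V → ∃ W : Opens X, W ≤ V ∧ x ∈ W ∧
      Subsingleton (LocCohZ.HZ F i (inf_le_left : W ⊓ U ≤ W))) :
    IsZero ((LocCohZ.HZsh U i).obj F) := by
  let G := LocCohZ.sectSuppF U ⋙ sheafToPresheaf (Opens.grothendieckTopology X) AddCommGrpCat.{u}
  let sh := presheafToSheaf (Opens.grothendieckTopology X) AddCommGrpCat.{u}
  have : sh.PreservesHomology := Functor.preservesHomologyOfExact _
  refine IsZero.of_iso ?_ (SheafCoh.rightDerivedPostExactIso (LocCohZ.sectSuppF U) G sh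
    (Functor.isoWhiskerLeft (LocCohZ.sectSuppF U) (sheafificationNatIso _ AddCommGrpCat.{u})) F i)
  let P := (G.rightDerived i).obj F
  have hP : ∀ W : Opens X, Subsingleton (LocCohZ.HZ F i (inf_le_left : W ⊓ U ≤ W)) →
      Subsingleton (P.obj (op W)) := fun W hW => by
    let ev := (evaluation (Opens X)ᵒᵖ AddCommGrpCat.{u}).obj (op W)
    have : ev.PreservesHomology := Functor.preservesHomologyOfExact _
    let e : ev.obj P ≅ ((GrothLib.LocZ.sectZF (inf_le_left : W ⊓ U ≤ W)).rightDerived i).obj F :=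
      (SheafCoh.rightDerivedPostExactIso (G ⋙ ev) G ev (Iso.refl _) F i).symm ≪≫
        (SheafCoh.rightDerivedCongr (LocZ.sectValIso U W : G ⋙ ev ≅ _) i).app F
    exact @Equiv.subsingleton _ _ (e ≪≫ (LocZ.rightDerivedSectZFIso _ i).app F).addCommGroupIsoToAddEquiv.toEquiv hW
  refine SheafCoh.isZero_sheafify_of_res_locally_zero _ fun V ξ => ?_
  refine ⟨⟨fun V' f => P.map f.op ξ = 0, fun {V' V''} f hf g => ?_⟩, fun x hx => ?_, fun V' f hf => hf⟩
  · rw [op_comp, P.map_comp, ConcreteCategory.comp_apply, hf, map_zero]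
  · obtain ⟨W, hWV, hxW, hW⟩ := h V x hx
    have := hP W hW
    exact ⟨W, homOfLE hWV, Subsingleton.elim _ _, hxW⟩

theorem subsingleton_HZ_of_le {W : Opens X} (hW : W ≤ U) (F : CohTop.Ab X) (i : ℕ) :
    Subsingleton (LocCohZ.HZ F i (inf_le_left : W ⊓ U ≤ W)) := by
  have : IsIso (homOfLE (inf_le_left : W ⊓ U ≤ W)) :=
    ⟨homOfLE (le_inf le_rfl hW), Subsingleton.elim _ _, Subsingleton.elim _ _⟩
  have hz : IsZero (LocCohZ.zq (inf_le_left : W ⊓ U ≤ W)) := by
    have : IsIso (CohCx.freeSheafMap (Opens.grothendieckTopology X) (homOfLE (inf_le_left : W ⊓ U ≤ W))) := by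
      refine ⟨CohCx.freeSheafMap (Opens.grothendieckTopology X) (homOfLE (le_inf le_rfl hW)), ?_, ?_⟩
      · rw [← CohFree.freeSheafMap_comp, ← CohFree.freeSheafMap_id]
        rfl
      · rw [← CohFree.freeSheafMap_comp, ← CohFree.freeSheafMap_id]
        rfl
    exact isZero_cokernel_of_epi _
  refine subsingleton_of_forall_eq 0 fun x => ?_
  rw [← Abelian.Ext.mk₀_id_comp x, (IsZero.iff_id_eq_zero _).1 hz, Abelian.Ext.mk₀_zero, Abelian.Ext.zero_comp]

/-- The groups with supports vanish between vanishing groups. -/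
theorem subsingleton_HZ_succ' (F : CohTop.Ab X) {W V : Opens X} (h : W ≤ V) (i : ℕ)
    [Subsingleton (CohTop.HU F i W)] [Subsingleton (CohTop.HU F (i + 1) V)] :
    Subsingleton (LocCohZ.HZ F (i + 1) h) := by
  refine subsingleton_of_forall_eq 0 fun x => ?_
  obtain ⟨y, rfl⟩ := LocZ.exists_delta _ _ x (Subsingleton.elim _ _)
  rw [Subsingleton.elim y 0, map_zero]

end GrothLib.LocVan25
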