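import Groth.Agent.Lib.LocVan25.Basic
import Groth.Agent.Lib.AraDim
import Groth.Agent.Lib.Cohom.Vanishing
import Groth.Agent.Lib.Cohom.AffineSections
import Groth.Prelude.Def_Coh

/-! # Local cohomology sheaves vanish above the dimension -/

set_option autoImplicit false
universe u

open CategoryTheory CategoryTheory.Limits Opposite TopologicalSpace AlgebraicGeometry

namespace GrothLib.LocVan25

/-- Near a prime of height at most `d`, a closed set is cut out by `d` elements. -/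
theorem exists_elements_near {R : Type u} [CommRing R] [IsNoetherianRing R] (I p : Ideal R) [p.IsPrime]
    (hI : I ≤ p) (d : ℕ) (hd : p.height ≤ d) :
    ∃ (f : Fin d → R) (g : R), g ∉ p ∧ (∀ j, f j ∈ I) ∧
      ∀ q : Ideal R, q.IsPrime → g ∉ q → Ideal.span (Set.range f) ≤ q → I ≤ q := by
  obtain ⟨f, hf, hh⟩ := AraDim.exists_elements I d
  let J := Ideal.span (Set.range f)
  have hfin : {q ∈ J.minimalPrimes | ¬ I ≤ q}.Finite :=
    (J.finite_minimalPrimes_of_isNoetherianRing R).subset fun q hq => hq.1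
  have hne : ∀ q ∈ hfin.toFinset, ∃ a ∈ q, a ∉ p := fun q hq => by
    obtain ⟨hq, hqI⟩ := hfin.mem_toFinset.1 hq
    have := hq.isPrime
    by_contra hc
    simp only [not_exists, not_and, not_not] at hc
    have hlt : q < p := lt_of_le_of_ne hc fun e => hqI (e ▸ hI)
    have h1 := (add_le_add (hh q hq.isPrime hq.le hqI) le_rfl).trans
      ((Ideal.height_add_one_le_of_lt_of_isPrime hlt).trans hd)
    have h2 : d + 1 ≤ d := by exact_mod_cast h1
    omega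
  classical
  let a : Ideal R → R := fun q => if h : ∃ a ∈ q, a ∉ p then h.choose else 1
  have ha : ∀ q, a q ∉ p := fun q => by
    by_cases h : ∃ a ∈ q, a ∉ p
    · simp only [a, dif_pos h]; exact h.choose_spec.2
    · simp only [a, dif_neg h]; exact fun h1 => ‹p.IsPrime›.ne_top ((Ideal.eq_top_iff_one p).2 h1)
  refine ⟨f, ∏ q ∈ hfin.toFinset, a q, fun hg => ?_, hf, fun q hq hgq hle => ?_⟩
  · obtain ⟨q, -, hq⟩ := (Ideal.IsPrime.prod_mem_iff).1 hg
    exact ha q hq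
  · obtain ⟨q₀, hq₀, hq₀q⟩ := Ideal.exists_minimalPrimes_le hle
    by_contra hIq
    have hmem : q₀ ∈ hfin.toFinset := hfin.mem_toFinset.2 ⟨hq₀, fun h => hIq (h.trans hq₀q)⟩
    refine hgq (hq₀q ?_)
    have hqa : a q₀ ∈ q₀ := by
      simp only [a, dif_pos (hne q₀ hmem)]; exact (hne q₀ hmem).choose_spec.1
    exact Ideal.mem_of_dvd _ (Finset.dvd_prod_of_mem a hmem) hqa

variable {X : Scheme.{u}}

theorem mem_basicOpen_iff' {A : X.Opens} (hA : IsAffineOpen A) (f : Γ(X, A)) (y : A) :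
    (y : X) ∈ X.basicOpen f ↔ f ∉ (hA.primeIdealOf y).asIdeal := by
  have h := SetLike.ext_iff.1 (hA.fromSpec_preimage_basicOpen f) (hA.primeIdealOf y)
  have h' : hA.fromSpec (hA.primeIdealOf y) ∈ X.basicOpen f ↔ f ∉ (hA.primeIdealOf y).asIdeal := h
  rwa [hA.fromSpec_primeIdealOf] at h'

/-- Near `x ∉ U` the open `U` is a union of `dim O_{X,x}` affine opens. -/
theorem exists_cover [IsLocallyNoetherian X] (U V : X.Opens) (x : X) (hxV : x ∈ V) (hxU : x ∉ U) (i : ℕ)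
    (hi : ringKrullDim (X.presheaf.stalk x) < (i : WithBot ℕ∞)) :
    ∃ (d : ℕ) (A : X.Opens) (_ : IsAffineOpen A) (g : Γ(X, A)) (f : Fin d → Γ(X, A)),
      d < i ∧ X.basicOpen g ≤ V ∧ x ∈ X.basicOpen g ∧
        X.basicOpen g ⊓ U = ⨆ j, X.basicOpen (g * f j) := by
  obtain ⟨A, hA, hxA, hAV⟩ := exists_isAffineOpen_mem_and_subset hxV
  have hN : IsNoetherianRing Γ(X, A) := IsLocallyNoetherian.component_noetherian ⟨A, hA⟩
  obtain ⟨I, hI⟩ := (PrimeSpectrum.isClosed_iff_zeroLocus_ideal _).1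
    (isClosed_compl_iff.2 (hA.fromSpec ⁻¹ᵁ U).isOpen)
  have hq : ∀ y : A, (y : X) ∈ U ↔ ¬ I ≤ (hA.primeIdealOf y).asIdeal := fun y => by
    have h := Set.ext_iff.1 hI (hA.primeIdealOf y)
    have h' : ¬ hA.fromSpec (hA.primeIdealOf y) ∈ U ↔ I ≤ (hA.primeIdealOf y).asIdeal := h
    rw [hA.fromSpec_primeIdealOf] at h'
    exact (not_iff_comm.1 h').symm
  let p := (hA.primeIdealOf ⟨x, hxA⟩).asIdeal
  letI := TopCat.Presheaf.algebra_section_stalk X.presheaf (⟨x, hxA⟩ : A)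
  have hloc : IsLocalization.AtPrime (X.presheaf.stalk x) p := hA.isLocalization_stalk ⟨x, hxA⟩
  rw [@IsLocalization.AtPrime.ringKrullDim_eq_height _ _ p _ (X.presheaf.stalk x) _ _ hloc] at hi
  have hlt : p.height < (i : ℕ∞) := WithBot.coe_lt_coe.1 hi
  obtain ⟨d, hd⟩ := WithTop.ne_top_iff_exists.1 (ne_top_of_lt hlt)
  have hdi : d < i := by
    rw [← hd] at hlt
    exact Nat.cast_lt.1 hlt
  obtain ⟨f, g, hg, hf, hfg⟩ := exists_elements_near I p (not_not.1 (mt (hq ⟨x, hxA⟩).2 hxU)) d hd.ge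
  refine ⟨d, A, hA, g, f, hdi, (X.basicOpen_le g).trans hAV,
    (mem_basicOpen_iff' hA g ⟨x, hxA⟩).2 hg, ?_⟩
  apply le_antisymm
  · rintro y ⟨hy₁, hy₂⟩
    have hyA : y ∈ A := X.basicOpen_le g hy₁
    have h1 : ¬ Ideal.span (Set.range f) ≤ (hA.primeIdealOf ⟨y, hyA⟩).asIdeal := fun h =>
      (hq ⟨y, hyA⟩).1 hy₂ (hfg _ (hA.primeIdealOf ⟨y, hyA⟩).isPrime
        ((mem_basicOpen_iff' hA g ⟨y, hyA⟩).1 hy₁) h)
    rw [Ideal.span_le, Set.not_subset] at h1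
    obtain ⟨_, ⟨j, rfl⟩, hj⟩ := h1
    refine Opens.mem_iSup.2 ⟨j, ?_⟩
    rw [Scheme.basicOpen_mul]
    exact ⟨hy₁, (mem_basicOpen_iff' hA (f j) ⟨y, hyA⟩).2 hj⟩
  · refine iSup_le fun j => ?_
    rw [Scheme.basicOpen_mul]
    rintro y ⟨hy₁, hy₂⟩
    have hyA : y ∈ A := X.basicOpen_le g hy₁
    exact ⟨hy₁, (hq ⟨y, hyA⟩).2 fun h => (mem_basicOpen_iff' hA (f j) ⟨y, hyA⟩).1 hy₂ (h (hf j))⟩

/-- `ℋ^i_Y` of a quasi-coherent module vanishes if `i` exceeds the dimension along `Y`. -/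
theorem isZero_HZsh_of_dim_lt [IsLocallyNoetherian X] (U : X.Opens) (G : X.Modules) [G.IsQuasicoherent]
    (i : ℕ) (hi : ∀ x : X, x ∉ (U : Set X) → ringKrullDim (X.presheaf.stalk x) < (i : WithBot ℕ∞)) :
    IsZero ((LocCohZ.HZsh (X := X.carrier) U i).obj (Coh.toAb G)) := by
  refine isZero_HZsh_of_locally _ _ _ fun V x hx => ?_
  by_cases hxU : x ∈ (U : Set X)
  · exact ⟨V ⊓ U, inf_le_left, ⟨hx, hxU⟩, subsingleton_HZ_of_le _ inf_le_right _ _⟩
  obtain ⟨d, A, hA, g, f, hdi, hgV, hxg, hcov⟩ := exists_cover U V x hx hxU i (hi x hxU)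
  refine ⟨X.basicOpen g, hgV, hxg, ?_⟩
  obtain ⟨m, rfl⟩ : ∃ m, i = m + 1 := ⟨i - 1, by omega⟩
  have hv : Cohom.VanishFrom (Coh.toAb G) (X.basicOpen g ⊓ U) d := by
    rw [hcov]
    exact Cohom.vanishFrom_iSup G (fun W => ∃ a : Γ(X, A), X.basicOpen a = W)
      (fun W ⟨a, ha⟩ => ha ▸ hA.basicOpen a)
      (fun W W' ⟨a, ha⟩ ⟨b, hb⟩ => ⟨a * b, by rw [Scheme.basicOpen_mul, ha, hb]⟩)
      d _ (fun j => ⟨g * f j, rfl⟩)
  have : Subsingleton (CohTop.HU (X := X.carrier) (Coh.toAb G) m (X.basicOpen g ⊓ U)) := hv m (by omega)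
  have : Subsingleton (CohTop.HU (X := X.carrier) (Coh.toAb G) (m + 1) (X.basicOpen g)) :=
    Cohom.vanishFrom_affine G (hA.basicOpen g) (m + 1) (by omega)
  exact subsingleton_HZ_succ' _ _ m

end GrothLib.LocVan25
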